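import Groth.Agent.EssDimConic.Tsen
import Groth.Agent.H8Lim.SpreadOut

/-!
# Conic bundles over curves are birational to the product with the line
-/

set_option autoImplicit false
set_option linter.style.haveILetI false
set_option backward.isDefEq.respectTransparency.types false
set_option maxHeartbeats 1000000

universe u

open CategoryTheory CategoryTheory.Limits AlgebraicGeometry
open Groth.Agent

namespace Groth.Agent.EssDimConic

theorem flat_fromSpecStalk' {Y : Scheme.{u}} (y : Y) : Flat (Y.fromSpecStalk y) := by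
  obtain ⟨U, hU, hy, -⟩ := exists_isAffineOpen_mem_and_subset (x := y) (U := ⊤) trivial
  rw [← hU.fromSpecStalk_eq_fromSpecStalk hy]
  haveI := hU.isLocalization_stalk ⟨y, hy⟩
  let _ : Algebra Γ(Y, U) (Y.presheaf.stalk y) := TopCat.Presheaf.algebra_section_stalk Y.presheaf ⟨y, hy⟩
  have : Flat (Spec.map (Y.presheaf.germ U y hy)) := by
    rw [Flat.SpecMap_iff]
    exact RingHom.flat_algebraMap_iff.2 (IsLocalization.flat _ (hU.primeIdealOf ⟨y, hy⟩).asIdeal.primeCompl)
  show Flat (Spec.map (Y.presheaf.germ U y hy) ≫ hU.fromSpec)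
  infer_instance

variable {B X P : Scheme.{u}} {η : B}

theorem isIso_residue (hη : IsField (B.presheaf.stalk η)) : IsIso (B.residue η) := by
  rw [ConcreteCategory.isIso_iff_bijective]
  refine ⟨fun a b h => ?_, B.residue_surjective η⟩
  have hker : a - b ∈ IsLocalRing.maximalIdeal (B.presheaf.stalk η) := by
    rw [← IsLocalRing.residue_eq_zero_iff, map_sub, sub_eq_zero]
    exact h
  rw [IsLocalRing.isField_iff_maximalIdeal_eq.1 hη, Ideal.mem_bot, sub_eq_zero] at hker
  exact hker

theorem isIso_stalkMap_fiberι (hη : IsField (B.presheaf.stalk η)) (π : X ⟶ B) (z : π.fiber η) :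
    IsIso ((π.fiberι η).stalkMap z) := by
  haveI := isIso_residue hη
  haveI := flat_fromSpecStalk' η
  haveI : Flat (B.fromSpecResidueField η) := by
    unfold Scheme.fromSpecResidueField
    infer_instance
  haveI : Flat (π.fiberι η) := inferInstanceAs (Flat (pullback.fst π (B.fromSpecResidueField η)))
  haveI : IsPreimmersion (π.fiberι η) :=
    inferInstanceAs (IsPreimmersion (pullback.fst π (B.fromSpecResidueField η)))
  rw [ConcreteCategory.isIso_iff_bijective]
  refine ⟨?_, (π.fiberι η).stalkMap_surjective z⟩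
  have h := Flat.stalkMap (π.fiberι η) z
  let ψ := ((π.fiberι η).stalkMap z).hom
  letI := ψ.toAlgebra
  haveI : Module.Flat (X.presheaf.stalk (π.fiberι η z)) ((π.fiber η).presheaf.stalk z) := h
  haveI : IsLocalHom (algebraMap (X.presheaf.stalk (π.fiberι η z)) ((π.fiber η).presheaf.stalk z)) :=
    inferInstanceAs (IsLocalHom ((π.fiberι η).stalkMap z).hom)
  haveI := Module.FaithfullyFlat.of_flat_of_isLocalHom
    (A := X.presheaf.stalk (π.fiberι η z)) (B := (π.fiber η).presheaf.stalk z)
  exact FaithfulSMul.algebraMap_injective _ _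

/-- An isomorphism of generic fibres spreads out. -/
theorem exists_opens_iso (hη : IsField (B.presheaf.stalk η)) (π : X ⟶ B) (q : P ⟶ B)
    [LocallyOfFinitePresentation π] [LocallyOfFinitePresentation q]
    (ε : π.fiber η ≅ q.fiber η)
    (hε : ε.hom ≫ q.fiberToSpecResidueField η = π.fiberToSpecResidueField η) (z : π.fiber η) :
    ∃ (U : X.Opens) (W : P.Opens) (e : (U : Scheme.{u}) ≅ (W : Scheme.{u})),
      (U : Set X).Nonempty ∧ e.hom ≫ W.ι ≫ q = U.ι ≫ π := by
  let x := π.fiberι η z
  let y := q.fiberι η (ε.hom z)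
  haveI h1 := isIso_stalkMap_fiberι hη π z
  haveI h2 := isIso_stalkMap_fiberι hη q (ε.hom z)
  have hw : ∀ {Y : Scheme.{u}} (g : Y ⟶ B), g.fiberι η ≫ g = g.fiberToSpecResidueField η ≫ B.fromSpecResidueField η :=
    fun g => pullback.condition
  obtain ⟨φ, hφ, hsp⟩ : ∃ φ : P.presheaf.stalk y ⟶ X.presheaf.stalk x, IsIso φ ∧
      Spec.map φ ≫ P.fromSpecStalk y ≫ q = X.fromSpecStalk x ≫ π := by
    let φ : P.presheaf.stalk y ⟶ X.presheaf.stalk x :=
      (q.fiberι η).stalkMap (ε.hom z) ≫ ε.hom.stalkMap z ≫ inv ((π.fiberι η).stalkMap z)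
    refine ⟨φ, inferInstance, ?_⟩
    rw [← cancel_epi (Spec.map ((π.fiberι η).stalkMap z)), ← Spec.map_comp_assoc]
    simp only [φ, Category.assoc, IsIso.inv_hom_id, Category.comp_id, Spec.map_comp]
    rw [Scheme.SpecMap_stalkMap_fromSpecStalk_assoc, Scheme.SpecMap_stalkMap_fromSpecStalk_assoc,
      Scheme.SpecMap_stalkMap_fromSpecStalk_assoc, hw q, ← Category.assoc ε.hom, hε, hw π]
  have e : π x = q y := by
    have hh := congr($hsp (IsLocalRing.closedPoint _))
    simp only [Scheme.Hom.comp_apply, Scheme.fromSpecStalk_closedPoint] at hh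
    rw [← hh]
    congr 1
    rw [Spec_closedPoint, Scheme.fromSpecStalk_closedPoint]
  have h : q.stalkMap y ≫ φ = B.presheaf.stalkSpecializes (Inseparable.of_eq e).specializes ≫ π.stalkMap x := by
    apply Spec.map_injective
    rw [← cancel_mono (B.fromSpecStalk (q y)), Spec.map_comp, Spec.map_comp, Category.assoc, Category.assoc,
      Scheme.SpecMap_stalkSpecializes_fromSpecStalk, Scheme.SpecMap_stalkMap_fromSpecStalk,
      Scheme.SpecMap_stalkMap_fromSpecStalk, hsp]
  obtain ⟨U, hxU, W, f, hf, -, hf2⟩ := H8Lim.spread_out_isIso π q e φ h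
  exact ⟨U, W, asIso f, ⟨x, hxU⟩, hf2⟩

/-- A surface fibred over a curve with rational generic fibre is birational to the product with the line. -/
theorem exists_birational (k : Type u) [Field k] [IsAlgClosed k]
    {X B : Scheme.{u}} [X.Over (Spec (CommRingCat.of k))] [IsIntegral X] [B.Over (Spec (CommRingCat.of k))]
    [IsIntegral B] [IsProper (X ↘ Spec (CommRingCat.of k))] (hX2 : topologicalKrullDim X = 2)
    (hB : Curve.IsSmoothProperCurve k B (B ↘ Spec (CommRingCat.of k)))
    (π : X ⟶ B) (hπ : π ≫ (B ↘ Spec (CommRingCat.of k)) = X ↘ Spec (CommRingCat.of k))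
    (hsurj : Function.Surjective π.base)
    [GeometricallyIntegral (π.fiberToSpecResidueField (genericPoint B))]
    (hgen : @Curv2.genus (B.residueField (genericPoint B)) _ (π.fiber (genericPoint B))
      ⟨π.fiberToSpecResidueField (genericPoint B)⟩ = 0) :
    ∃ (U : X.Opens) (W : (pullback (B ↘ Spec (CommRingCat.of k)) (CohB1.ProjSpace.toSpec 1 k)).Opens)
      (e : (U : Scheme.{u}) ≅ (W : Scheme.{u})),
      (U : Set X).Nonempty ∧ e.hom ≫ W.ι ≫ pullback.fst (B ↘ Spec (CommRingCat.of k)) (CohB1.ProjSpace.toSpec 1 k) = U.ι ≫ π := by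
  obtain ⟨-, -, s, hs⟩ := exists_section k hX2 hB π hπ hsurj hgen
  obtain ⟨hBp, hBs, -, hB1⟩ := hB
  let p := B ↘ Spec (CommRingCat.of k)
  haveI : IsProper p := hBp
  haveI : Smooth p := hBs
  haveI : IsProper (π ≫ p) := by rw [hπ]; infer_instance
  haveI : IsProper π := IsProper.of_comp π p
  haveI : IsLocallyNoetherian B := LocallyOfFiniteType.isLocallyNoetherian p
  let η := genericPoint B
  let K := B.residueField η
  let F := π.fiber η
  let f := π.fiberToSpecResidueField η
  have hdimF := fibre_dim k hX2 hB1 π hπ hsurj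
  letI : F.Over (Spec (CommRingCat.of K)) := ⟨f⟩
  haveI : IsProper (F ↘ Spec (CommRingCat.of K)) :=
    inferInstanceAs (IsProper (pullback.snd π (B.fromSpecResidueField η)))
  haveI : GeometricallyIntegral (F ↘ Spec (CommRingCat.of K)) := inferInstanceAs (GeometricallyIntegral f)
  haveI : IsIntegral F := GeometricallyIntegral.isIntegral_of_subsingleton (F ↘ Spec (CommRingCat.of K))
  haveI : Smooth (F ↘ Spec (CommRingCat.of K)) := CurveRR24.smooth_of_genus_zero K hdimF hgen
  haveI := EulerLib.isNoetherian_of_proper K (X := F)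
  obtain ⟨N, hN, hN1⟩ := CurveRR24.exists_deg_one_of_section K hdimF s hs
  have h1 : Subsingleton (Coh.HH F (Coh.structureModule F) 1) := by
    haveI := CurveRR24.finite_HH_of_isCoh K (Coherent.isCoh_structureModule F) 1
    exact (Module.finrank_zero_iff (R := K)).1 hgen
  obtain ⟨e, he⟩ := CurveRR24.exists_iso_projLine_of_h1 K hdimF h1 hN hN1
  letI : Algebra k K := (DimLib.baseRingHom p η).toAlgebra
  let q := pullback.fst p (CohB1.ProjSpace.toSpec 1 k)
  haveI : LocallyOfFiniteType (CohB1.ProjSpace.toSpec 1 k) :=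
    haveI := CurveLib.isProper_projSpace k 1
    inferInstance
  have hbc := Coherent.isPullback_projSpace 1 k K
  have hlift : IsPullback (pullback.fst q (B.fromSpecResidueField η) ≫ pullback.snd p (CohB1.ProjSpace.toSpec 1 k))
      (pullback.snd q (B.fromSpecResidueField η)) (CohB1.ProjSpace.toSpec 1 k)
      (Spec.map (CommRingCat.ofHom (algebraMap k K))) := by
    have h := (IsPullback.of_hasPullback q (B.fromSpecResidueField η)).paste_horiz
      (IsPullback.of_hasPullback p (CohB1.ProjSpace.toSpec 1 k)).flip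
    rw [← DimLib.specMap_baseRingHom p η] at h
    exact h
  let ε' : q.fiber η ≅ CohB1.ProjSpace 1 K := hlift.isoIsPullback _ _ hbc
  refine exists_opens_iso (Field.toIsField B.functionField) π q (e ≪≫ ε'.symm) ?_ (genericPoint F)
  rw [Iso.trans_hom, Iso.symm_hom, Category.assoc]
  have : ε'.inv ≫ q.fiberToSpecResidueField η = CohB1.ProjSpace.toSpec 1 K :=
    hlift.isoIsPullback_inv_snd _ _ hbc
  rw [this]
  exact he

end Groth.Agent.EssDimConic
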