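import Groth.Agent.Cubic5.Curve
import Groth.Agent.Cubic5.Points

/-!
# Diagonal conics `a X₀² + b X₁² + c X₂²` are curves of genus zero
-/

set_option autoImplicit false
set_option linter.style.haveILetI false
set_option backward.isDefEq.respectTransparency.types false

universe u

open CategoryTheory CategoryTheory.Limits AlgebraicGeometry MvPolynomial TopologicalSpace
open Groth.Agent.LefPen24 Groth.Agent.Cubic5

namespace Groth.Agent.EssDimConic

variable {K : Type u} [Field K]

theorem conic_mem (a : Fin (2 + 1) → K) :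
    ∑ i, C (a i) * X i ^ 2 ∈ CohB1.polyGrading 2 K 2 :=
  MvPolynomial.IsHomogeneous.sum _ _ _ fun i _ => (isHomogeneous_X_pow i 2).C_mul (a i)

/-- The conic form. -/
noncomputable def conic (a : Fin (2 + 1) → K) : LefPen.Form 2 K 2 := ⟨_, conic_mem a⟩

theorem coe_conic (a : Fin (2 + 1) → K) :
    (conic a : MvPolynomial (Fin (2 + 1)) K) = ∑ i, C (a i) * X i ^ 2 := rfl

theorem conic_ne_zero {a : Fin (2 + 1) → K} (ha : a 0 ≠ 0) : conic a ≠ 0 := by
  intro h
  have h1 := congrArg (fun F : LefPen.Form 2 K 2 => eval ![1, 0, 0] F.1) h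
  exact ha (by simpa [coe_conic, Fin.sum_univ_three] using h1)

theorem jacGood {a : Fin (2 + 1) → K} (ha : ∀ i, a i ≠ 0) (h2 : (2 : K) ≠ 0) :
    JacGood ((conic a : LefPen.Form 2 K 2) : MvPolynomial (Fin (2 + 1)) K) := by
  intro j q hq hj hG
  by_contra hcon
  push Not at hcon
  have hu : ∀ x : K, x ≠ 0 → ∀ p, C x * p ∈ q → p ∈ q := fun x hx p hp =>
    (Ideal.unit_mul_mem_iff_mem q ((IsUnit.mk0 x hx).map C)).1 hp
  have hj1 : (X j : MvPolynomial (Fin (2 + 1)) K) ∉ q := fun hx => hq.ne_top ((Ideal.eq_top_iff_one _).2 (by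
    simpa using Ideal.sub_mem _ hx hj))
  have hd : ∀ i, pderiv i ((conic a : LefPen.Form 2 K 2) : MvPolynomial (Fin (2 + 1)) K) = C (2 * a i) * X i := by
    intro i
    rw [coe_conic, map_sum, Finset.sum_eq_single i]
    · simp [Derivation.leibniz_pow, map_mul, map_ofNat]
      ring
    · intro l _ hl
      simp [Derivation.leibniz_pow, pderiv_X_of_ne hl]
    · simp
  have hne : ∀ i, i ≠ j → (X i : MvPolynomial (Fin (2 + 1)) K) ∈ q := fun i hi =>
    hu _ (mul_ne_zero h2 (ha i)) _ (by rw [← hd i]; exact hcon i hi)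
  have hrest : ∑ i ∈ Finset.univ.erase j, C (a i) * X i ^ 2 ∈ q :=
    q.sum_mem fun i hi => Ideal.mul_mem_left _ _ (Ideal.pow_mem_of_mem _ (hne i (Finset.ne_of_mem_erase hi)) 2 (by norm_num))
  rw [coe_conic, ← Finset.add_sum_erase _ _ (Finset.mem_univ j)] at hG
  exact hj1 (hq.mem_of_pow_mem 2 (hu _ (ha j) _ ((Ideal.add_mem_iff_left _ hrest).1 hG)))

/-- The substitution keeps the shape of the conic. -/
theorem mapForm_conic {L : Type u} [Field L] [Algebra K L] (s : Fin (2 + 1) → Lˣ) (a : Fin (2 + 1) → K) :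
    mapForm s (conic a) = conic (fun i => algebraMap K L (a i) * (s i : L) ^ 2) := by
  refine Subtype.ext ?_
  show subst s _ = _
  rw [coe_conic, coe_conic]
  simp only [subst, map_sum, map_mul, map_pow, aeval_C, aeval_X, MvPolynomial.algebraMap_apply]
  refine Finset.sum_congr rfl fun i _ => ?_
  ring

/-- The curve. -/
noncomputable abbrev curve (a : Fin (2 + 1) → K) : Scheme.{u} := (LefPen.hypIdeal (conic a)).subscheme

/-- Its structure morphism. -/
noncomputable abbrev curveToSpec (a : Fin (2 + 1) → K) : curve a ⟶ Spec (CommRingCat.of K) :=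
  (LefPen.hypIdeal (conic a)).subschemeι ≫ CohB1.ProjSpace.toSpec 2 K

theorem exists_isPullback_curve {L : Type u} [Field L] [Algebra K L] (a : Fin (2 + 1) → K)
    (a' : Fin (2 + 1) → L) (ha : ∀ i, algebraMap K L (a i) = a' i) :
    ∃ g : curve a' ⟶ curve a,
      IsPullback g (curveToSpec a') (curveToSpec a) (Spec.map (CommRingCat.ofHom (algebraMap K L))) := by
  suffices h : ∀ G' : LefPen.Form 2 L 2, mapForm (fun _ => (1 : Lˣ)) (conic a) = G' →
      ∃ g : (LefPen.hypIdeal G').subscheme ⟶ curve a,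
        IsPullback g ((LefPen.hypIdeal G').subschemeι ≫ CohB1.ProjSpace.toSpec 2 L) (curveToSpec a)
          (Spec.map (CommRingCat.ofHom (algebraMap K L))) from
    h _ ((mapForm_conic _ a).trans (congrArg conic (funext fun i => by simp [ha])))
  rintro G' rfl
  exact exists_isPullback_hyp _ (conic a)

theorem isProper_curve (a : Fin (2 + 1) → K) : IsProper (curveToSpec a) := by
  haveI : IsProper (CohB1.ProjSpace.toSpec 2 K) := CurveLib.isProper_projSpace K 2
  infer_instance

theorem curve_facts {a : Fin (2 + 1) → K} (ha : ∀ i, a i ≠ 0) (hchar : (2 : K) ≠ 0) :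
    IrreducibleSpace (curve a) ∧ topologicalKrullDim (curve a) = 1 ∧
      (letI : (curve a).Over (Spec (CommRingCat.of K)) := ⟨curveToSpec a⟩
       Curv2.genus K (curve a) = 0) := by
  let G := conic a
  let f := curveToSpec a
  letI : (curve a).Over (Spec (CommRingCat.of K)) := ⟨f⟩
  obtain ⟨h0, h1⟩ := finrank_planeCurve G (conic_ne_zero (ha 0)) (by norm_num)
    (inst := ⟨curveToSpec a⟩) rfl
  haveI : IsProper f := isProper_curve a
  haveI : Smooth f := smooth_hyp G (jacGood ha hchar)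
  haveI := connectedSpace_of_finrank K h0
  haveI := AbVarLib.isIntegral_of_smooth_connected f
  refine ⟨inferInstance, ?_, h1.trans (by decide)⟩
  let ι := (LefPen.hypIdeal G).subschemeι
  let η := genericPoint (curve a)
  let z : ProjectiveSpectrum (CohB1.polyGrading 2 K) := ι η
  have hsupp : ∀ (y : ProjectiveSpectrum (CohB1.polyGrading 2 K)), y ∈ Set.range ι ↔
      (G : MvPolynomial (Fin (2 + 1)) K) ∈ y.asHomogeneousIdeal.toIdeal := by
    intro y
    obtain ⟨j, hj⟩ := Opens.mem_iSup.1 ((ProjLib.iSup_basicOpen_X 2 K).ge (Set.mem_univ y))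
    let U : (CohB1.ProjSpace 2 K).affineOpens := ⟨LefPen.chart 2 K j, isAffineOpen_chart j⟩
    have h := Set.ext_iff.1 ((LefPen.hypIdeal G).coe_support_inter U) y
    rw [ideal_hypIdeal_chart, Scheme.zeroLocus_span] at h
    have hy : y ∈ Set.range ι ↔ y ∉ (CohB1.ProjSpace 2 K).basicOpen (LefPen.dehom G j) := by
      rw [Scheme.IdealSheafData.range_subschemeι]
      refine ⟨fun hy => ?_, fun hy => (h.2 ⟨?_, hj⟩).1⟩
      · have := (h.1 ⟨hy, hj⟩).1
        exact (Scheme.mem_zeroLocus_iff _ _ _).1 this _ (Set.mem_singleton _)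
      · exact (Scheme.mem_zeroLocus_iff _ _ _).2 fun f hf => by
          rw [Set.mem_singleton_iff] at hf
          subst hf
          exact hy
    rw [hy]
    erw [TwistLib.G.basicOpen_away (LefPen.X_mem 2 K j) 2 G.1]
    show ¬ (X j * (G : MvPolynomial (Fin (2 + 1)) K) ∉ y.asHomogeneousIdeal.toIdeal) ↔ _
    rw [not_not]
    exact ⟨fun hm => (y.isPrime.mem_or_mem hm).resolve_left hj, fun hm => Ideal.mul_mem_left _ _ hm⟩
  have hG : (G : MvPolynomial (Fin (2 + 1)) K) ∈ z.asHomogeneousIdeal.toIdeal := (hsupp z).1 ⟨η, rfl⟩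
  have hle : DimLib.PN.cdim z.asHomogeneousIdeal.toIdeal ≤ 2 := by
    have hne : (⊥ : Ideal (MvPolynomial (Fin (2 + 1)) K)) ≠ z.asHomogeneousIdeal.toIdeal := fun he => by
      rw [← he, Ideal.mem_bot] at hG
      exact conic_ne_zero (ha 0) (Subtype.ext hG)
    have := DimLib.PN.cdim_lt Ideal.isPrime_bot z.isPrime bot_le hne
    rw [DimLib.PN.cdim_bot] at this
    omega
  obtain ⟨w, hwz, hwG, hw⟩ := DimLib.PN.exists_above G.2 z hG
  obtain ⟨y, hy⟩ := (hsupp w).2 hwG
  have hzw : w = z := by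
    subst hy
    exact @Inseparable.eq (CohB1.ProjSpace 2 K) _ _ (ι y) (ι η)
      (hwz.antisymm ((genericPoint_specializes y).map ι.continuous))
  rw [hzw] at hw
  have h2 := DimLib.PN.ptDim_add_one z
  rw [DimLib.topologicalKrullDim_eq_ptDim_genericPoint f, DimLib.ptDim_comp_preimmersion]
  have h3 : DimLib.ptDim (CohB1.ProjSpace.toSpec 2 K) (DimLib.PN.pt z) = 1 := by omega
  exact congrArg Nat.cast h3

/-- A diagonal conic is a curve of genus zero. -/
theorem isCurveOfGenus_curve {a : Fin (2 + 1) → K} (ha : ∀ i, a i ≠ 0) (hchar : (2 : K) ≠ 0) :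
    ModFun.IsCurveOfGenus 0 (curveToSpec a) := by
  have key : ∀ (L : Type u) [Field L] (y : Spec (CommRingCat.of L) ⟶ Spec (CommRingCat.of K)) (Z : Scheme.{u})
      (fst : Z ⟶ curve a) (snd : Z ⟶ Spec (CommRingCat.of L)),
      IsPullback fst snd (curveToSpec a) y → IrreducibleSpace Z ∧ topologicalKrullDim Z = 1 ∧
        (letI : Z.Over (Spec (CommRingCat.of L)) := ⟨snd⟩
         Curv2.genus L Z = 0) := by
    intro L _ y Z fst snd hpb
    obtain ⟨φ, rfl⟩ : ∃ φ, Spec.map φ = y := ⟨_, Spec.map_preimage y⟩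
    letI : Algebra K L := φ.hom.toAlgebra
    let a' : Fin (2 + 1) → L := fun i => algebraMap K L (a i)
    obtain ⟨g, hg⟩ := exists_isPullback_curve a a' fun _ => rfl
    have h22 : (2 : L) ≠ 0 := by rw [← map_ofNat (algebraMap K L) 2]; exact (map_ne_zero _).2 hchar
    obtain ⟨hi, hd, hge⟩ := curve_facts (a := a') (fun i => (map_ne_zero _).2 (ha i)) h22
    let ε : Z ≅ _ := hpb.isoIsPullback _ _ hg
    refine ⟨?_, (IsHomeomorph.topologicalKrullDim_eq _ (Scheme.homeoOfIso ε).isHomeomorph).trans hd, ?_⟩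
    · exact (Scheme.homeoOfIso ε).irreducibleSpace_iff.2 hi
    · letI : Z.Over (Spec (CommRingCat.of L)) := ⟨snd⟩
      letI : (curve a').Over (Spec (CommRingCat.of L)) := ⟨curveToSpec a'⟩
      haveI := isProper_curve a'
      haveI : IsProper (curve a' ↘ Spec (CommRingCat.of L)) := this
      haveI := EulerLib.isNoetherian_of_proper L (X := curve a')
      have h' : IsPullback ε.hom snd (curveToSpec a') (Spec.map (CommRingCat.ofHom (algebraMap L L))) := by
        rw [show CommRingCat.ofHom (algebraMap L L) = 𝟙 _ from rfl, Spec.map_id]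
        exact IsPullback.of_horiz_isIso ⟨by rw [Category.comp_id]; exact hpb.isoIsPullback_hom_snd _ _ hg⟩
      exact (CurveRR24.genus_bc h').trans hge
  refine ⟨smooth_hyp _ (jacGood ha hchar), isProper_curve a, ⟨fun L _ y Z fst snd hpb =>
    (key L y Z fst snd hpb).1⟩, fun Ω _ _ t X i q hpb => ⟨(key Ω t X i q hpb).2.1, (key Ω t X i q hpb).2.2⟩⟩

end Groth.Agent.EssDimConic
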