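import Groth.Agent.EssDimConic.Model
import Groth.Agent.EssDimP1.Descent
import Mathlib.RingTheory.AlgebraicIndependent.TranscendenceBasis
import Mathlib.FieldTheory.IntermediateField.Adjoin.Algebra

/-!
# Curves of genus zero are defined over fields of transcendence degree at most two
-/

set_option autoImplicit false
set_option linter.style.haveILetI false
set_option backward.isDefEq.respectTransparency.types false
set_option maxHeartbeats 1000000

universe u

open CategoryTheory CategoryTheory.Limits AlgebraicGeometry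

namespace Groth.Agent.EssDimConic

attribute [local instance] MvPolynomial.algebraMvPolynomial

variable {k : Type u} [Field k] {L : Type u} [Field L] [Algebra k L]

theorem trdeg_adjoin_le (s : Finset L) :
    Cardinal.toENat (Algebra.trdeg k (IntermediateField.adjoin k (s : Set L))) ≤ (s.card : ℕ∞) := by
  let F := IntermediateField.adjoin k (s : Set L)
  let t : Set F := Subtype.val ⁻¹' (s : Set L)
  have hF : IntermediateField.adjoin k t = (⊤ : IntermediateField k F) := by
    apply IntermediateField.map_injective F.val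
    rw [IntermediateField.adjoin_map, ← AlgHom.fieldRange_eq_map, IntermediateField.fieldRange_val]
    congr 1
    ext x
    exact ⟨fun ⟨y, hy, e⟩ => e ▸ hy, fun hx => ⟨⟨x, IntermediateField.subset_adjoin k _ hx⟩, hx, rfl⟩⟩
  haveI : Algebra.IsAlgebraic (Algebra.adjoin k t) F := by
    rw [← IntermediateField.isAlgebraic_adjoin_iff_top, hF]
    exact ⟨fun x => isAlgebraic_algebraMap (R := (⊤ : IntermediateField k F)) ⟨x, trivial⟩⟩
  refine (OrderHomClass.mono Cardinal.toENat (Algebra.IsAlgebraic.trdeg_le_cardinalMk k t)).trans ?_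
  rw [← Cardinal.toENat_nat]
  refine OrderHomClass.mono Cardinal.toENat ?_
  rw [← Cardinal.mk_coe_finset]
  exact Cardinal.mk_le_of_injective (f := fun y : t => (⟨y.1.1, y.2⟩ : (s : Set L)))
    fun a b h => Subtype.ext (Subtype.ext (by exact congrArg Subtype.val h :))

/-- The family of an unmarked curve. -/
noncomputable def fam (K : Type u) [Field K] [Algebra k K] {Z : Scheme.{u}} (f : Z ⟶ Spec (CommRingCat.of K)) :
    CurvSt.PtFamObj (Spec (CommRingCat.of k)) 0 where
  base := SGA7.pt (K := k) K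
  C := Z
  f := f
  sect i := i.elim0
  sect_f i := i.elim0

/-- The object of the moduli of curves of genus zero. -/
noncomputable def obj (K : Type u) [Field K] [Algebra k K] {Z : Scheme.{u}} (f : Z ⟶ Spec (CommRingCat.of K))
    (h : ModFun.IsCurveOfGenus 0 f) : StkCnt.pts (CurvSt.Mgn (Spec (CommRingCat.of k)) 0 0) K :=
  ⟨⟨fam K f, h, fun i => i.elim0⟩, rfl⟩

variable [CharZero k] [FibCat.IsFibGrpd (CurvSt.Mgn (Spec (CommRingCat.of k)) 0 0).p]

theorem descends_two (x : StkCnt.pts (CurvSt.Mgn (Spec (CommRingCat.of k)) 0 0) L) :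
    ∃ K : IntermediateField k L, Cardinal.toENat (Algebra.trdeg k K) ≤ (2 : ℕ∞) ∧
      EssDim.Descends (Gerb.isoClPsh (CurvSt.Mgn (Spec (CommRingCat.of k)) 0 0))
        (Quot.mk (Gerb.IsoRel (CurvSt.Mgn (Spec (CommRingCat.of k)) 0 0) (SGA7.pt (K := k) L)) x) K := by
  classical
  haveI : CharZero L := charZero_of_injective_algebraMap (algebraMap k L).injective
  obtain ⟨⟨A, hA⟩, hx⟩ := x
  obtain ⟨base, Z, f, σ, hσ⟩ := A
  change base = SGA7.pt (K := k) L at hx
  subst hx
  obtain ⟨hgen, hdis⟩ := hA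
  suffices key : ∃ K : IntermediateField k L, Cardinal.toENat (Algebra.trdeg k K) ≤ (2 : ℕ∞) ∧
      ∃ (Z₀ : Scheme.{u}) (f₀ : Z₀ ⟶ Spec (CommRingCat.of K)) (g : Z ⟶ Z₀),
        ModFun.IsCurveOfGenus 0 f₀ ∧
          IsPullback g f f₀ (Spec.map (CommRingCat.ofHom (algebraMap K L))) by
    obtain ⟨K, hK, Z₀, f₀, g, h₀, hpb⟩ := key
    refine ⟨K, hK, ?_⟩
    rw [EssDim.descends_isoCl_iff]
    let φ : (⟨SGA7.pt (K := k) L, Z, f, σ, hσ⟩ : CurvSt.PtFamObj (Spec (CommRingCat.of k)) 0) ⟶ fam K f₀ :=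
      { base := EssDim.resPt K.val
        top := g
        cart := hpb
        w_sect := fun i => i.elim0 }
    let x₀ : (CurvSt.Mgn (Spec (CommRingCat.of k)) 0 0).obj := ⟨fam K f₀, h₀, fun i => i.elim0⟩
    let x₁ : (CurvSt.Mgn (Spec (CommRingCat.of k)) 0 0).obj :=
      ⟨⟨SGA7.pt (K := k) L, Z, f, σ, hσ⟩, ⟨hgen, hdis⟩⟩
    let ψ : x₁ ⟶ x₀ := ObjectProperty.homMk (X := x₁) (Y := x₀) φ
    refine ⟨⟨x₀, rfl⟩, ψ, ?_⟩
    exact inferInstanceAs ((CurvSt.Mgn (Spec (CommRingCat.of k)) 0 0).p.IsHomLift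
      ((CurvSt.Mgn (Spec (CommRingCat.of k)) 0 0).p.map ψ) ψ)
  rcases exists_section_or_conic (L := L) f hgen with ⟨s, hs⟩ | ⟨a, e, ha0, ha, he⟩
  · -- a rational point: the projective line
    let K : IntermediateField k L := ⊥
    refine ⟨K, ?_, CohB1.ProjSpace 1 K, CohB1.ProjSpace.toSpec 1 K, ?_⟩
    · haveI : Algebra.IsAlgebraic k (⊥ : IntermediateField k L) :=
        Algebra.IsAlgebraic.of_finite k (⊥ : IntermediateField k L)
      show Cardinal.toENat (Algebra.trdeg k (⊥ : IntermediateField k L)) ≤ 2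
      rw [trdeg_eq_zero, map_zero]
      exact zero_le
    obtain ⟨e, he⟩ := EssDimP1.exists_iso_projLine_of_section f hgen s hs
    refine ⟨e.hom ≫ Proj.map (Coherent.polyGradedMap 1 K L) (Coherent.polyGradedMap_irrelevant 1 K L),
      EssDimP1.isCurveOfGenus_projLine K, ?_⟩
    have h1 : IsPullback e.hom f (CohB1.ProjSpace.toSpec 1 L) (𝟙 _) :=
      IsPullback.of_horiz_isIso ⟨by rw [Category.comp_id, he]⟩
    have h2 := h1.paste_horiz (Coherent.isPullback_projSpace 1 K L)
    rw [Category.id_comp] at h2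
    exact h2
  · -- a conic
    let K : IntermediateField k L := IntermediateField.adjoin k (({a 1, a 2} : Finset L) : Set L)
    have hmem : ∀ l, a l ∈ K := by
      intro l
      fin_cases l
      · show a 0 ∈ K
        rw [ha0]; exact one_mem K
      · exact IntermediateField.subset_adjoin k _ (by simp)
      · exact IntermediateField.subset_adjoin k _ (by simp)
    let a₀ : Fin (2 + 1) → K := fun l => ⟨a l, hmem l⟩
    refine ⟨K, (trdeg_adjoin_le _).trans ?_, curve a₀, curveToSpec a₀, ?_⟩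
    · exact_mod_cast Finset.card_le_two
    haveI : CharZero K := charZero_of_injective_algebraMap (algebraMap k K).injective
    obtain ⟨g, hg⟩ := exists_isPullback_curve a₀ a fun _ => rfl
    refine ⟨e.hom ≫ g, isCurveOfGenus_curve (fun l h => ha l (congrArg Subtype.val h)) two_ne_zero, ?_⟩
    have h1 : IsPullback e.hom f (curveToSpec a) (𝟙 _) :=
      IsPullback.of_horiz_isIso ⟨by rw [Category.comp_id, he]⟩
    have h2 := h1.paste_horiz hg
    rw [Category.id_comp] at h2
    exact h2

theorem edSt_le_two :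
    EssDim.edSt (CurvSt.Mgn (Spec (CommRingCat.of k)) 0 0) ≠ ⊥ ∧
      EssDim.edSt (CurvSt.Mgn (Spec (CommRingCat.of k)) 0 0) ≤ ((2 : ℕ) : WithBot ℕ∞) := by
  refine ⟨fun h => ?_, ?_⟩
  · have h' : (EssDim.edAt (Gerb.isoClPsh (CurvSt.Mgn (Spec (CommRingCat.of k)) 0 0))
        (Quot.mk _ (obj k (CohB1.ProjSpace.toSpec 1 k) (EssDimP1.isCurveOfGenus_projLine k))) : WithBot ℕ∞) ≤ ⊥ :=
      h ▸ EssDim.edAt_le_ed (P := Gerb.isoClPsh (CurvSt.Mgn (Spec (CommRingCat.of k)) 0 0)) (L := k) _
    exact WithBot.coe_ne_bot (le_bot_iff.1 h')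
  · refine iSup_le fun L => iSup_le fun _ => iSup_le fun _ => iSup_le fun ξ => ?_
    induction ξ using Quot.ind with
    | mk x =>
      obtain ⟨K, hK, hd⟩ := descends_two x
      exact WithBot.coe_le_coe.2 ((EssDim.edAt_le_of_descends hd).trans hK)

end Groth.Agent.EssDimConic
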