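import Groth.Agent.LefPen24.PlaneImage
import Groth.Agent.EssDimP1.PointAt
import Groth.Agent.Coherent.ProjSpaceBase
import Mathlib.RingTheory.MvPolynomial.EulerIdentity
import Mathlib.LinearAlgebra.QuadraticForm.Basic

/-!
# Linear automorphisms of `P^n` and diagonalisation of quadratic forms
-/

set_option autoImplicit false
set_option backward.isDefEq.respectTransparency.types false

universe u

open CategoryTheory CategoryTheory.Limits AlgebraicGeometry MvPolynomial
open Groth.Agent.ProjLib

namespace Groth.Agent.EssDimConic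

variable {L : Type u} [Field L] {n d : ℕ}

/-- The linear substitution `X i ↦ ∑ j, M i j * X j`. -/
noncomputable def linSub (M : Matrix (Fin (n + 1)) (Fin (n + 1)) L) :
    CohB1.polyGrading n L →+*ᵍ CohB1.polyGrading n L where
  toRingHom := (MvPolynomial.aeval fun i : Fin (n + 1) =>
    ∑ j : Fin (n + 1), MvPolynomial.C (M i j) * MvPolynomial.X j).toRingHom
  map_mem {i p} hp := by
    have h : ∀ i : Fin (n + 1), (∑ j : Fin (n + 1), MvPolynomial.C (M i j) * MvPolynomial.X j).IsHomogeneous 1 :=
      fun i => MvPolynomial.IsHomogeneous.sum _ _ _ fun j _ => by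
        simpa using (isHomogeneous_C _ (M i j)).mul (isHomogeneous_X L j)
    simpa using MvPolynomial.IsHomogeneous.aeval hp _ h

theorem linSub_apply (M : Matrix (Fin (n + 1)) (Fin (n + 1)) L) (p : MvPolynomial (Fin (n + 1)) L) :
    linSub M p = MvPolynomial.aeval (fun i : Fin (n + 1) =>
      ∑ j : Fin (n + 1), MvPolynomial.C (M i j) * MvPolynomial.X j) p := rfl

theorem linSub_C (M : Matrix (Fin (n + 1)) (Fin (n + 1)) L) (r : L) :
    linSub M (MvPolynomial.C r) = MvPolynomial.C r := by rw [linSub_apply, aeval_C]; rfl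

theorem linSub_linSub (M N : Matrix (Fin (n + 1)) (Fin (n + 1)) L) (p : MvPolynomial (Fin (n + 1)) L) :
    linSub M (linSub N p) = linSub (N * M) p := by
  refine RingHom.congr_fun (MvPolynomial.ringHom_ext (f := (linSub M).toRingHom.comp (linSub N).toRingHom)
    (g := (linSub (N * M)).toRingHom) (fun r => ?_) (fun i => ?_)) p
  · show linSub M (linSub N (C r)) = linSub (N * M) (C r)
    rw [linSub_C, linSub_C, linSub_C]
  · show linSub M (linSub N (X i)) = linSub (N * M) (X i)
    simp only [linSub_apply, aeval_X, map_sum, map_mul, aeval_C, Matrix.mul_apply,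
      MvPolynomial.algebraMap_eq, Finset.sum_mul, Finset.mul_sum]
    rw [Finset.sum_comm]
    refine Finset.sum_congr rfl fun _ _ => Finset.sum_congr rfl fun _ _ => ?_
    ring

theorem linSub_one (p : MvPolynomial (Fin (n + 1)) L) :
    linSub (1 : Matrix (Fin (n + 1)) (Fin (n + 1)) L) p = p := by
  refine RingHom.congr_fun (MvPolynomial.ringHom_ext (f := (linSub 1).toRingHom)
    (g := RingHom.id _) (fun r => linSub_C _ r) (fun i => ?_)) p
  show linSub 1 (X i) = X i
  rw [linSub_apply, aeval_X, Finset.sum_eq_single i]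
  · simp
  · intro j _ hj
    simp [Matrix.one_apply_ne (Ne.symm hj)]
  · simp

theorem linSub_irrelevant {M N : Matrix (Fin (n + 1)) (Fin (n + 1)) L} (h : N * M = 1) :
    HomogeneousIdeal.irrelevant (CohB1.polyGrading n L) ≤
      (HomogeneousIdeal.irrelevant (CohB1.polyGrading n L)).map (linSub M) := by
  intro p hp
  refine (Ideal.span_le.2 ?_ : Ideal.span _ ≤ _) (ProjLib.irrelevant_le_span_X n L hp)
  rintro _ ⟨i, rfl⟩
  have e : linSub M (linSub N (X i)) = (X i : MvPolynomial (Fin (n + 1)) L) := by
    rw [linSub_linSub, h, linSub_one]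
  rw [← e]
  exact Ideal.mem_map_of_mem _
    (HomogeneousIdeal.mem_irrelevant_of_mem _ one_pos ((linSub N).2 (ProjLib.X_mem_polyGrading n L i)))

theorem map_linSub_comp {M N : Matrix (Fin (n + 1)) (Fin (n + 1)) L} (h : N * M = 1) (h' : M * N = 1) :
    Proj.map (linSub M) (linSub_irrelevant h) ≫ Proj.map (linSub N) (linSub_irrelevant h') = 𝟙 _ := by
  rw [← Proj.map_comp]
  have e : (linSub M).comp (linSub N) = GradedRingHom.id (CohB1.polyGrading n L) := by
    refine DFunLike.ext _ _ fun p => ?_
    show linSub M (linSub N p) = p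
    rw [linSub_linSub, h, linSub_one]
  convert Proj.map_id (𝒜 := CohB1.polyGrading n L) using 2

/-- The automorphism of `P^n` given by a pair of mutually inverse matrices. -/
noncomputable def linAut {M N : Matrix (Fin (n + 1)) (Fin (n + 1)) L} (h : N * M = 1) (h' : M * N = 1) :
    CohB1.ProjSpace n L ≅ CohB1.ProjSpace n L where
  hom := Proj.map (linSub M) (linSub_irrelevant h)
  inv := Proj.map (linSub N) (linSub_irrelevant h')
  hom_inv_id := map_linSub_comp h h'
  inv_hom_id := map_linSub_comp h' h

theorem linAut_toSpec {M N : Matrix (Fin (n + 1)) (Fin (n + 1)) L} (h : N * M = 1) (h' : M * N = 1) :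
    (linAut h h').hom ≫ CohB1.ProjSpace.toSpec n L = CohB1.ProjSpace.toSpec n L := by
  refine (EssDimP1.map_toSpec (linSub M) (ρ := RingHom.id L) (fun r => linSub_C M r) (linSub_irrelevant h)).trans ?_
  rw [CommRingCat.ofHom_id, Spec.map_id, Category.comp_id]

variable {X' : Scheme.{u}} [IsIntegral X'] (i : X' ⟶ CohB1.ProjSpace n L)

theorem imagePrime_linAut {M N : Matrix (Fin (n + 1)) (Fin (n + 1)) L} (h : N * M = 1) (h' : M * N = 1)
    (G : MvPolynomial (Fin (n + 1)) L) (hp : LefPen24.imagePrime i = Ideal.span {G}) :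
    LefPen24.imagePrime (i ≫ (linAut h h').hom) = Ideal.span {linSub N G} := by
  ext p
  have e : p ∈ LefPen24.imagePrime (i ≫ (linAut h h').hom) ↔ linSub M p ∈ LefPen24.imagePrime i := Iff.rfl
  rw [e, hp, Ideal.mem_span_singleton, Ideal.mem_span_singleton]
  constructor
  · intro hd
    have := map_dvd (linSub N).toRingHom hd
    change linSub N G ∣ linSub N (linSub M p) at this
    rwa [linSub_linSub, h', linSub_one] at this
  · intro hd
    have := map_dvd (linSub M).toRingHom hd
    change linSub M (linSub N G) ∣ linSub M p at this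
    rwa [linSub_linSub, h, linSub_one] at this

theorem pderiv_swap (i j : Fin (n + 1)) (p : MvPolynomial (Fin (n + 1)) L) :
    pderiv i (pderiv j p) = pderiv j (pderiv i p) := by
  induction p using MvPolynomial.induction_on with
  | C a => simp
  | add p q hp hq => simp [hp, hq]
  | mul_X p l h =>
    simp only [Derivation.leibniz, smul_eq_mul, map_add, pderiv_X, Pi.single_apply, h]
    split_ifs <;> simp [h] <;> ring

theorem diagonalize [NeZero (2 : L)] {G : MvPolynomial (Fin (n + 1)) L} (hG : G.IsHomogeneous 2) :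
    ∃ (M N : Matrix (Fin (n + 1)) (Fin (n + 1)) L) (a : Fin (n + 1) → L),
      N * M = 1 ∧ M * N = 1 ∧ linSub N G = ∑ i, C (a i) * X i ^ 2 := by
  classical
  haveI : Invertible (2 : L) := invertibleOfNonzero two_ne_zero
  -- the symmetric matrix of the form
  let A : Matrix (Fin (n + 1)) (Fin (n + 1)) L := fun i j => coeff 0 (pderiv j (pderiv i G)) / 2
  have h1 : ∀ i, (pderiv i G).IsHomogeneous 1 := fun i => hG.pderiv
  have h0 : ∀ i j, pderiv j (pderiv i G) = C (2 * A i j) := fun i j => by
    have := (totalDegree_zero_iff_isHomogeneous (σ := Fin (n + 1))).2 ((h1 i).pderiv (i := j))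
    rw [totalDegree_eq_zero_iff_eq_C] at this
    rw [this]
    congr 1
    simp only [A, coeff_C, if_true]
    rw [mul_div_cancel₀ _ two_ne_zero]
  have hsymm : ∀ i j, A i j = A j i := fun i j => by
    simp only [A, pderiv_swap j i G]
  have hGA : G = ∑ i, ∑ j, C (A i j) * (X i * X j) := by
    have e1 : ∀ i, pderiv i G = ∑ j, C (2 * A i j) * X j := fun i => by
      have := (h1 i).sum_X_mul_pderiv
      rw [one_smul] at this
      refine this.symm.trans (Finset.sum_congr rfl fun j _ => ?_)
      rw [h0, mul_comm]
    have e2 := hG.sum_X_mul_pderiv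
    have h2 : (C (2 : L) : MvPolynomial (Fin (n + 1)) L) ≠ 0 := by
      rw [Ne, map_eq_zero_iff _ (C_injective _ _)]; exact two_ne_zero
    refine mul_left_cancel₀ h2 ?_
    calc C (2 : L) * G = 2 • G := by rw [nsmul_eq_mul, map_ofNat]; simp
      _ = _ := by
        rw [← e2, Finset.mul_sum]
        refine Finset.sum_congr rfl fun i _ => ?_
        rw [e1, Finset.mul_sum, Finset.mul_sum]
        refine Finset.sum_congr rfl fun j _ => ?_
        rw [map_mul]; ring
  -- orthogonal basis
  obtain ⟨v, hv⟩ := LinearMap.BilinForm.exists_orthogonal_basis (K := L)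
    (B := Matrix.toBilin' A) ⟨fun x y => by
      simp only [Matrix.toBilin'_apply, RingHom.id_apply]
      rw [Finset.sum_comm]
      refine Finset.sum_congr rfl fun i _ => Finset.sum_congr rfl fun j _ => ?_
      rw [hsymm]; ring⟩
  let b := v.reindex (finCongr (Module.finrank_fin_fun (R := L) (n := n + 1)))
  let N : Matrix (Fin (n + 1)) (Fin (n + 1)) L := fun i j => b j i
  let M : Matrix (Fin (n + 1)) (Fin (n + 1)) L := fun i j => b.repr (Pi.single j 1) i
  have hMN : M * N = 1 := by
    ext i j
    rw [Matrix.mul_apply, Matrix.one_apply]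
    have : b.repr (b j) i = if i = j then (1 : L) else 0 := by
      rw [b.repr_self, Finsupp.single_apply]
      simp only [eq_comm]
    rw [← this]
    have hb : b j = ∑ l, b j l • (Pi.single l 1 : Fin (n + 1) → L) := by
      funext r
      simp [Pi.single_apply]
    conv_rhs => rw [hb, map_sum, Finsupp.finsetSum_apply]
    refine Finset.sum_congr rfl fun l _ => ?_
    rw [map_smul, Finsupp.smul_apply, smul_eq_mul, mul_comm]
  refine ⟨M, N, fun l => Matrix.toBilin' A (b l) (b l), mul_eq_one_comm.1 hMN, hMN, ?_⟩
  rw [hGA]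
  simp only [linSub_apply, map_sum, map_mul, aeval_C, aeval_X, MvPolynomial.algebraMap_eq]
  calc ∑ i, ∑ j, C (A i j) * ((∑ l, C (N i l) * X l) * ∑ m, C (N j m) * X m)
      = ∑ l, ∑ m, C (Matrix.toBilin' A (b l) (b m)) * (X l * X m) := by
        simp only [Matrix.toBilin'_apply, map_sum, map_mul, Finset.mul_sum, Finset.sum_mul]
        conv_rhs => arg 2; ext l; rw [Finset.sum_comm]; arg 2; ext i; rw [Finset.sum_comm]
        conv_rhs => rw [Finset.sum_comm]
        refine Finset.sum_congr rfl fun i _ => ?_
        conv_rhs => rw [Finset.sum_comm]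
        refine Finset.sum_congr rfl fun j _ => ?_
        rw [Finset.sum_comm]
        refine Finset.sum_congr rfl fun l _ => Finset.sum_congr rfl fun m _ => ?_
        show _ = C (b l i) * C (A i j) * C (b m j) * (X l * X m)
        ring
    _ = _ := by
        refine Finset.sum_congr rfl fun l _ => ?_
        rw [Finset.sum_eq_single l]
        · rw [pow_two]
        · intro m _ hm
          have : Matrix.toBilin' A (b l) (b m) = 0 := by
            simp only [b, Module.Basis.reindex_apply]
            exact hv (fun h => hm ((finCongr _).symm.injective h).symm)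
          rw [this, map_zero, zero_mul]
        · simp

end Groth.Agent.EssDimConic
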