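import Groth.Agent.EssDimConic.Lin
import Groth.Agent.EssDimConic.Conic
import Groth.Agent.EssDimP1.Genus0
import Groth.Agent.CurveRR24.GenusZeroEmb
import Groth.Agent.CurveRR24.Dual
import Groth.Agent.CurveRR24.GenusZero

/-!
# Curves of genus zero are diagonal conics or have a rational point
-/

set_option autoImplicit false
set_option linter.style.haveILetI false
set_option backward.isDefEq.respectTransparency.types false
set_option maxHeartbeats 1000000

universe u

open CategoryTheory CategoryTheory.Limits AlgebraicGeometry MvPolynomial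
open Groth.Agent

namespace Groth.Agent.EssDimConic

/-- The degree two embedding. -/
theorem exists_plane_model {L : Type u} [Field L] {C : Scheme.{u}}
    (f : C ⟶ Spec (CommRingCat.of L)) (hC : ModFun.IsCurveOfGenus 0 f) :
    ∃ (_ : IsIntegral C) (i : C ⟶ CohB1.ProjSpace 2 L) (_ : IsClosedImmersion i)
      (d : ℕ) (G : LefPen.Form 2 L d), i ≫ CohB1.ProjSpace.toSpec 2 L = f ∧ (d = 1 ∨ d = 2) ∧ G ≠ 0 ∧
        LefPen24.imagePrime i = Ideal.span {(G : MvPolynomial (Fin (2 + 1)) L)} := by
  classical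
  obtain ⟨hsm, hpr, hgi, hfib⟩ := hC
  letI : C.Over (Spec (CommRingCat.of L)) := ⟨f⟩
  haveI := hsm
  haveI := hgi
  haveI : IsProper (C ↘ Spec (CommRingCat.of L)) := hpr
  haveI : Smooth (C ↘ Spec (CommRingCat.of L)) := hsm
  haveI := AbSchLib.geometricallyReduced_of_smooth f
  haveI : GeometricallyIntegral f :=
    GeometricallyIntegral.of_geometricallyReduced_of_geometricallyIrreducible _
  haveI : GeometricallyIntegral (C ↘ Spec (CommRingCat.of L)) := inferInstanceAs (GeometricallyIntegral f)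
  haveI : IsIntegral C := GeometricallyIntegral.isIntegral_of_subsingleton f
  refine ⟨inferInstance, ?_⟩
  let Ω := AlgebraicClosure L
  let t := Spec.map (CommRingCat.ofHom (algebraMap L Ω))
  letI : (pullback f t).Over (Spec (CommRingCat.of Ω)) := ⟨pullback.snd f t⟩
  have hpb : IsPullback (pullback.fst f t) (pullback f t ↘ Spec (CommRingCat.of Ω))
      (C ↘ Spec (CommRingCat.of L)) (Spec.map (CommRingCat.ofHom (algebraMap L Ω))) :=
    IsPullback.of_hasPullback f t
  obtain ⟨hdΩ, hgΩ⟩ := hfib Ω t _ _ _ (IsPullback.of_hasPullback f t)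
  haveI : IsProper f := hpr
  have hdim : topologicalKrullDim C = 1 := (DimLib.topologicalKrullDim_bc f Ω).symm.trans hdΩ
  haveI : IsLocallyNoetherian C := CurveRR24.isLocallyNoetherian_of_proper L
  haveI := EulerLib.isNoetherian_of_proper L (X := C)
  have hg : Curv2.genus L C = 0 := (CurveRR24.genus_bc hpb).symm.trans hgΩ
  have h0 : Module.finrank L (Coh.HH C (Coh.structureModule C) 0) = 1 := CurveRR24.h0_structure_of_geomIntegral L
  obtain ⟨ω, t', hω, hrep⟩ := SerreDual.exists_dualizing L C (d := 1) (by rw [hdim]; norm_num)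
  have hi := CurveRR24.isInvertible_dualizing_of_smooth hdim hω hrep
  have hd := CurveRR24.deg_dualizing hrep hdim hi
  rw [CurveRR24.euler_structure L hdim.le, h0, hg] at hd
  obtain ⟨N, hN, ⟨e⟩⟩ := CurveRR24.exists_inverse L hi
  have hdN : Curv2.deg L C N 1 = ((2 : ℕ) : ℤ) := by
    have := CurveRR24.deg_inverse L hdim.le hi hN e
    norm_num at hd ⊢
    omega
  obtain ⟨i, hic, hif, -⟩ := CurveRR24.exists_closedImmersion_genus_zero L hdim h0 hg hN two_pos hdN
  obtain ⟨d, G, hd1, hG, hp⟩ := LefPen24.exists_generator i (by rw [hdim]; rfl) (by norm_num)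
  refine ⟨i, hic, d, G, hif, ?_, hG, hp⟩
  obtain ⟨e', he'⟩ := LefPen24.exists_iso_hyp i G hG hp
  let C' := (LefPen.hypIdeal G).subscheme
  let _ : C'.Over (Spec (CommRingCat.of L)) := ⟨(LefPen.hypIdeal G).subschemeι ≫ CohB1.ProjSpace.toSpec 2 L⟩
  obtain ⟨-, h1⟩ := LefPen24.finrank_planeCurve G hG hd1
    (inst := ⟨(LefPen.hypIdeal G).subschemeι ≫ CohB1.ProjSpace.toSpec 2 L⟩) rfl
  have hpb' : IsPullback e'.hom (C ↘ Spec (CommRingCat.of L)) (C' ↘ Spec (CommRingCat.of L))
      (Spec.map (CommRingCat.ofHom (algebraMap L L))) := by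
    rw [show CommRingCat.ofHom (algebraMap L L) = 𝟙 _ from rfl, Spec.map_id]
    refine IsPullback.of_horiz_isIso ⟨?_⟩
    rw [Category.comp_id]
    show e'.hom ≫ (LefPen.hypIdeal G).subschemeι ≫ CohB1.ProjSpace.toSpec 2 L = f
    rw [← Category.assoc, he', hif]
    rfl
  haveI : IsProper (CohB1.ProjSpace.toSpec 2 L) := CurveLib.isProper_projSpace L 2
  haveI : IsProper (C' ↘ Spec (CommRingCat.of L)) :=
    inferInstanceAs (IsProper ((LefPen.hypIdeal G).subschemeι ≫ CohB1.ProjSpace.toSpec 2 L))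
  haveI := EulerLib.isNoetherian_of_proper L (X := C')
  have hcho : (d - 1).choose 2 = 0 := (h1.symm.trans ((CurveRR24.genus_bc hpb').symm.trans hg) :)
  by_contra h3
  have : 1 ≤ (d - 1).choose 2 := Nat.choose_pos (by omega)
  omega

theorem exists_section_of_zero' {L : Type u} [Field L] {C : Scheme.{u}} [IsIntegral C]
    (i : C ⟶ CohB1.ProjSpace 2 L) [IsClosedImmersion i] {d : ℕ} (G : LefPen.Form 2 L d) (hG : G ≠ 0)
    (hp : LefPen24.imagePrime i = Ideal.span {(G : MvPolynomial (Fin (2 + 1)) L)})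
    (j : Fin (2 + 1)) (x : Fin (2 + 1) → L) (hx : x j = 1) (h0 : eval x G.1 = 0) :
    ∃ σ : Spec (CommRingCat.of L) ⟶ C, σ ≫ i ≫ CohB1.ProjSpace.toSpec 2 L = 𝟙 _ := by
  obtain ⟨e, he⟩ := LefPen24.exists_iso_hyp i G hG hp
  obtain ⟨σ, hσ⟩ := Cubic5.exists_section_of_zero G j x hx h0
  refine ⟨σ ≫ e.inv, ?_⟩
  rw [← he]
  simp only [Category.assoc, Iso.inv_hom_id_assoc]
  exact hσ

/-- A rational point, or a diagonal equation with leading coefficient one. -/
theorem exists_section_or_conic {L : Type u} [Field L] [NeZero (2 : L)] {Z : Scheme.{u}}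
    (f : Z ⟶ Spec (CommRingCat.of L)) (hC : ModFun.IsCurveOfGenus 0 f) :
    (∃ σ : Spec (CommRingCat.of L) ⟶ Z, σ ≫ f = 𝟙 _) ∨
    ∃ (a : Fin (2 + 1) → L) (e : Z ≅ curve a), a 0 = 1 ∧ (∀ i, a i ≠ 0) ∧ e.hom ≫ curveToSpec a = f := by
  classical
  obtain ⟨_, i, _, d, G, hif, hd, hG, hp⟩ := exists_plane_model f hC
  subst hif
  rcases hd with rfl | rfl
  · refine Or.inl ?_
    have hGh : (G : MvPolynomial (Fin (2 + 1)) L).IsHomogeneous 1 := G.2
    let c : Fin (2 + 1) → L := fun l => coeff 0 (pderiv l (G : MvPolynomial (Fin (2 + 1)) L))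
    have hc : ∀ l, pderiv l (G : MvPolynomial (Fin (2 + 1)) L) = C (c l) := fun l =>
      totalDegree_eq_zero_iff_eq_C.1 ((totalDegree_zero_iff_isHomogeneous (σ := Fin (2 + 1))).2 hGh.pderiv)
    have hev : ∀ x : Fin (2 + 1) → L, eval x G.1 = ∑ l, x l * c l := fun x => by
      have h := congrArg (eval x) hGh.sum_X_mul_pderiv
      rw [one_smul, map_sum] at h
      simp only [map_mul, eval_X, hc, eval_C] at h
      exact h.symm
    by_cases h0 : c 0 = 0
    · exact exists_section_of_zero' i G hG hp 0 ![1, 0, 0] rfl (by simp [hev, Fin.sum_univ_three, h0])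
    · exact exists_section_of_zero' i G hG hp 1 ![-c 1 / c 0, 1, 0] rfl
        (by simp [hev, Fin.sum_univ_three]; field_simp; ring)
  · obtain ⟨M, N, a, h, h', hdiag⟩ := diagonalize (G := (G : MvPolynomial (Fin (2 + 1)) L)) G.2
    let i' := i ≫ (linAut h h').hom
    have hi' : i' ≫ CohB1.ProjSpace.toSpec 2 L = i ≫ CohB1.ProjSpace.toSpec 2 L := by
      simp only [i', Category.assoc, linAut_toSpec]
    have hp' : LefPen24.imagePrime i' = Ideal.span {(conic a : MvPolynomial (Fin (2 + 1)) L)} := by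
      rw [imagePrime_linAut i h h' _ hp, hdiag]
      rfl
    have hne : conic a ≠ 0 := by
      intro h0
      refine hG (Subtype.ext ?_)
      have h1 : linSub N (G : MvPolynomial (Fin (2 + 1)) L) = 0 := hdiag.trans (congrArg Subtype.val h0)
      have h2 := congrArg (linSub M) h1
      rw [linSub_linSub, h, linSub_one, map_zero] at h2
      exact h2
    by_cases hz : ∀ l, a l ≠ 0
    · refine Or.inr ?_
      let b : Fin (2 + 1) → L := fun l => a l / a 0
      have hb : Ideal.span {(conic a : MvPolynomial (Fin (2 + 1)) L)} =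
          Ideal.span {(conic b : MvPolynomial (Fin (2 + 1)) L)} := by
        have : (conic a : MvPolynomial (Fin (2 + 1)) L) = C (a 0) * (conic b : MvPolynomial (Fin (2 + 1)) L) := by
          rw [coe_conic, coe_conic, Finset.mul_sum]
          refine Finset.sum_congr rfl fun l _ => ?_
          rw [← mul_assoc, ← C_mul, mul_div_cancel₀ _ (hz 0)]
        rw [this]
        exact Ideal.span_singleton_mul_left_unit ((IsUnit.mk0 _ (hz 0)).map C) _
      have hb0 : ∀ l, b l ≠ 0 := fun l => div_ne_zero (hz l) (hz 0)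
      obtain ⟨e, he⟩ := LefPen24.exists_iso_hyp i' (conic b) (conic_ne_zero (hb0 0)) (hp'.trans hb)
      refine ⟨b, e, div_self (hz 0), hb0, ?_⟩
      rw [← hi', ← he, Category.assoc]
    · refine Or.inl ?_
      push Not at hz
      obtain ⟨l, hl⟩ := hz
      obtain ⟨σ, hσ⟩ := exists_section_of_zero' i' (conic a) hne hp' l (fun m => if m = l then 1 else 0)
        (if_pos rfl) (by
          rw [coe_conic, map_sum]
          refine Finset.sum_eq_zero fun m _ => ?_
          by_cases hm : m = l <;> simp [hm, hl])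
      exact ⟨σ, by rw [← hi']; exact hσ⟩

end Groth.Agent.EssDimConic
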