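import Groth.Agent.EssDimConic.Model
import Groth.Agent.NeronLib.CodimOne
import Groth.Agent.S0212
import Groth.Agent.DimLib.Morphism
import Groth.Agent.CurvesLib24.Basic
import Groth.Prelude.Def_Curve

/-!
# Conic bundles over curves have sections
-/

set_option autoImplicit false
set_option linter.style.haveILetI false
set_option backward.isDefEq.respectTransparency.types false
set_option maxHeartbeats 1000000

universe u

open CategoryTheory CategoryTheory.Limits AlgebraicGeometry MvPolynomial
open Groth.Agent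

namespace Groth.Agent.EssDimConic

/-- The degree two embedding, for a geometrically integral curve of arithmetic genus zero. -/
theorem exists_plane_model_of_genus {L : Type u} [Field L] {Z : Scheme.{u}}
    (f : Z ⟶ Spec (CommRingCat.of L)) [IsProper f] [GeometricallyIntegral f] [IsIntegral Z]
    (hdim : topologicalKrullDim Z = 1) (hg : @Curv2.genus L _ Z ⟨f⟩ = 0) :
    ∃ (i : Z ⟶ CohB1.ProjSpace 2 L) (_ : IsClosedImmersion i)
      (d : ℕ) (G : LefPen.Form 2 L d), i ≫ CohB1.ProjSpace.toSpec 2 L = f ∧ (d = 1 ∨ d = 2) ∧ G ≠ 0 ∧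
        LefPen24.imagePrime i = Ideal.span {(G : MvPolynomial (Fin (2 + 1)) L)} := by
  classical
  letI : Z.Over (Spec (CommRingCat.of L)) := ⟨f⟩
  haveI : IsProper (Z ↘ Spec (CommRingCat.of L)) := ‹IsProper f›
  haveI : GeometricallyIntegral (Z ↘ Spec (CommRingCat.of L)) := inferInstanceAs (GeometricallyIntegral f)
  haveI : Smooth (Z ↘ Spec (CommRingCat.of L)) := CurveRR24.smooth_of_genus_zero L hdim hg
  haveI : IsLocallyNoetherian Z := CurveRR24.isLocallyNoetherian_of_proper L
  haveI := EulerLib.isNoetherian_of_proper L (X := Z)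
  have h0 : Module.finrank L (Coh.HH Z (Coh.structureModule Z) 0) = 1 := CurveRR24.h0_structure_of_geomIntegral L
  obtain ⟨ω, t', hω, hrep⟩ := SerreDual.exists_dualizing L Z (d := 1) (by rw [hdim]; norm_num)
  have hi := CurveRR24.isInvertible_dualizing_of_smooth hdim hω hrep
  have hd := CurveRR24.deg_dualizing hrep hdim hi
  rw [CurveRR24.euler_structure L hdim.le, h0, hg] at hd
  obtain ⟨N, hN, ⟨e⟩⟩ := CurveRR24.exists_inverse L hi
  have hdN : Curv2.deg L Z N 1 = ((2 : ℕ) : ℤ) := by
    have := CurveRR24.deg_inverse L hdim.le hi hN e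
    norm_num at hd ⊢
    omega
  obtain ⟨i, hic, hif, -⟩ := CurveRR24.exists_closedImmersion_genus_zero L hdim h0 hg hN two_pos hdN
  obtain ⟨d, G, hd1, hG, hp⟩ := LefPen24.exists_generator i (by rw [hdim]; rfl) (by norm_num)
  refine ⟨i, hic, d, G, hif, ?_, hG, hp⟩
  obtain ⟨e', he'⟩ := LefPen24.exists_iso_hyp i G hG hp
  let C' := (LefPen.hypIdeal G).subscheme
  let _ : C'.Over (Spec (CommRingCat.of L)) := ⟨(LefPen.hypIdeal G).subschemeι ≫ CohB1.ProjSpace.toSpec 2 L⟩
  obtain ⟨-, h1⟩ := LefPen24.finrank_planeCurve G hG hd1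
    (inst := ⟨(LefPen.hypIdeal G).subschemeι ≫ CohB1.ProjSpace.toSpec 2 L⟩) rfl
  have hpb' : IsPullback e'.hom (Z ↘ Spec (CommRingCat.of L)) (C' ↘ Spec (CommRingCat.of L))
      (Spec.map (CommRingCat.ofHom (algebraMap L L))) := by
    rw [show CommRingCat.ofHom (algebraMap L L) = 𝟙 _ from rfl, Spec.map_id]
    refine IsPullback.of_horiz_isIso ⟨?_⟩
    rw [Category.comp_id]
    show e'.hom ≫ (LefPen.hypIdeal G).subschemeι ≫ CohB1.ProjSpace.toSpec 2 L = f
    rw [← Category.assoc, he', hif]
    rfl
  haveI : IsProper (CohB1.ProjSpace.toSpec 2 L) := CurveLib.isProper_projSpace L 2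
  haveI : IsProper (C' ↘ Spec (CommRingCat.of L)) :=
    inferInstanceAs (IsProper ((LefPen.hypIdeal G).subschemeι ≫ CohB1.ProjSpace.toSpec 2 L))
  haveI := EulerLib.isNoetherian_of_proper L (X := C')
  have hcho : (d - 1).choose 2 = 0 := (h1.symm.trans ((CurveRR24.genus_bc hpb').symm.trans hg) :)
  by_contra h3
  have : 1 ≤ (d - 1).choose 2 := Nat.choose_pos (by omega)
  omega

theorem eval_smul_of_isHomogeneous {L : Type u} [Field L] {m d : ℕ} (c : L) (a : Fin m → L)
    {f : MvPolynomial (Fin m) L} (hf : f.IsHomogeneous d) : eval (c • a) f = c ^ d * eval a f := by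
  rw [eval_eq', eval_eq', Finset.mul_sum]
  refine Finset.sum_congr rfl fun e he => ?_
  have hd := hf (mem_support_iff.1 he)
  simp only [Pi.smul_apply, smul_eq_mul, mul_pow, Finset.prod_mul_distrib, Finset.prod_pow_eq_pow_sum]
  rw [show ∑ i, e i = d from by
    rw [← hd, Finsupp.weight_apply, Finsupp.sum_fintype _ _ (fun _ => by simp)]
    simp]
  ring

/-- Over a `C₁` field a geometrically integral genus zero curve has a rational point. -/
theorem exists_section_of_isCi {L : Type u} [Field L] (hL : Curves.IsCi L 1) {Z : Scheme.{u}}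
    (f : Z ⟶ Spec (CommRingCat.of L)) [IsProper f] [GeometricallyIntegral f]
    (hdim : topologicalKrullDim Z = 1) (hg : @Curv2.genus L _ Z ⟨f⟩ = 0) :
    ∃ s : Spec (CommRingCat.of L) ⟶ Z, s ≫ f = 𝟙 _ := by
  classical
  haveI : IsIntegral Z := GeometricallyIntegral.isIntegral_of_subsingleton f
  obtain ⟨i, _, d, G, hif, hd, hG, hp⟩ := exists_plane_model_of_genus f hdim hg
  subst hif
  have hGh : (G : MvPolynomial (Fin (2 + 1)) L).IsHomogeneous d := G.2
  obtain ⟨a, ha, hev⟩ := hL 1 (2 + 1) (fun _ => (G : MvPolynomial (Fin (2 + 1)) L)) (fun _ => d)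
    (fun _ => hGh) (fun _ => by omega) (by simp; omega)
  obtain ⟨j, hj⟩ := Function.ne_iff.1 ha
  have h0 : eval ((a j)⁻¹ • a) G.1 = 0 := by
    rw [eval_smul_of_isHomogeneous _ _ hGh, hev 0, mul_zero]
  obtain ⟨σ, hσ⟩ := exists_section_of_zero' i G hG hp j ((a j)⁻¹ • a)
    (by simpa using inv_mul_cancel₀ hj) h0
  exact ⟨σ, hσ⟩

/-- The generic fibre of a surface over a curve is a curve. -/
theorem fibre_dim (k : Type u) [Field k]
    {X B : Scheme.{u}} [X.Over (Spec (CommRingCat.of k))] [IsIntegral X] [B.Over (Spec (CommRingCat.of k))]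
    [IsIntegral B] [IsProper (X ↘ Spec (CommRingCat.of k))] (hX2 : topologicalKrullDim X = 2)
    [IsProper (B ↘ Spec (CommRingCat.of k))] (hB1 : topologicalKrullDim B = 1)
    (π : X ⟶ B) (hπ : π ≫ (B ↘ Spec (CommRingCat.of k)) = X ↘ Spec (CommRingCat.of k))
    (hsurj : Function.Surjective π.base) :
    topologicalKrullDim (π.fiber (genericPoint B)) = 1 := by
  let p := B ↘ Spec (CommRingCat.of k)
  haveI : IsProper (π ≫ p) := by rw [hπ]; infer_instance
  haveI : IsLocallyNoetherian B := LocallyOfFiniteType.isLocallyNoetherian p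
  let η := genericPoint B
  have hpη : DimLib.ptDim p η = 1 := by
    have h := DimLib.topologicalKrullDim_eq_ptDim_genericPoint p
    rw [hB1] at h; exact_mod_cast h.symm
  have hfib : topologicalKrullDim (π.base ⁻¹' {η}) = 1 := by
    refine le_antisymm ?_ ?_
    · have := (DimLib.topologicalKrullDim_fiber_le_iff p π η 1).2 fun y hy => by
        have h := DimLib.topologicalKrullDim_eq_iSup (π ≫ p)
        have h' : (DimLib.ptDim (π ≫ p) y : WithBot ℕ∞) ≤ topologicalKrullDim X := by
          rw [h]; exact le_iSup (fun y => (DimLib.ptDim (π ≫ p) y : WithBot ℕ∞)) y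
        rw [hX2] at h'
        have h'' : DimLib.ptDim (π ≫ p) y ≤ 2 := by exact_mod_cast h'
        omega
      exact_mod_cast this
    · have := (DimLib.le_topologicalKrullDim_fiber_iff p π η 1).2 ⟨genericPoint X, ?_, ?_⟩
      · exact_mod_cast this
      · obtain ⟨x, hx⟩ := hsurj η
        have h1 : π.base (genericPoint X) ⤳ η := hx ▸ (genericPoint_specializes x).map π.continuous
        exact h1.antisymm (genericPoint_specializes _) |>.eq
      · have h := DimLib.topologicalKrullDim_eq_ptDim_genericPoint (π ≫ p)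
        rw [hX2] at h
        have h2 : DimLib.ptDim (π ≫ p) (genericPoint X) = 2 := by exact_mod_cast h.symm
        omega
  exact ((π.fiberHomeo η).isHomeomorph.topologicalKrullDim_eq _).trans hfib

/-- A surface fibred over a curve with rational generic fibre has a section. -/
theorem exists_section (k : Type u) [Field k] [IsAlgClosed k]
    {X B : Scheme.{u}} [X.Over (Spec (CommRingCat.of k))] [IsIntegral X] [B.Over (Spec (CommRingCat.of k))]
    [IsIntegral B] [IsProper (X ↘ Spec (CommRingCat.of k))] (hX2 : topologicalKrullDim X = 2)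
    (hB : Curve.IsSmoothProperCurve k B (B ↘ Spec (CommRingCat.of k)))
    (π : X ⟶ B) (hπ : π ≫ (B ↘ Spec (CommRingCat.of k)) = X ↘ Spec (CommRingCat.of k))
    (hsurj : Function.Surjective π.base)
    [GeometricallyIntegral (π.fiberToSpecResidueField (genericPoint B))]
    (hgen : @Curv2.genus (B.residueField (genericPoint B)) _ (π.fiber (genericPoint B))
      ⟨π.fiberToSpecResidueField (genericPoint B)⟩ = 0) :
    ∃ σ : B ⟶ X, σ ≫ π = 𝟙 B ∧ ∃ s : Spec (B.residueField (genericPoint B)) ⟶ π.fiber (genericPoint B),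
      s ≫ π.fiberToSpecResidueField (genericPoint B) = 𝟙 _ := by
  obtain ⟨hBp, hBs, -, hB1⟩ := hB
  let p := B ↘ Spec (CommRingCat.of k)
  haveI : IsProper p := hBp
  haveI : Smooth p := hBs
  haveI : IsProper (π ≫ p) := by rw [hπ]; infer_instance
  haveI : IsProper π := IsProper.of_comp π p
  haveI : IsLocallyNoetherian B := LocallyOfFiniteType.isLocallyNoetherian p
  let η := genericPoint B
  -- the fibre is a curve
  have hdimF : topologicalKrullDim (π.fiber η) = 1 := fibre_dim k hX2 hB1 π hπ hsurj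
  have hpη : DimLib.ptDim p η = 1 := by
    have h := DimLib.topologicalKrullDim_eq_ptDim_genericPoint p
    rw [hB1] at h; exact_mod_cast h.symm
  -- the function field is `C₁`
  letI : Algebra k (B.residueField η) := (DimLib.baseRingHom p η).toAlgebra
  have htr : Algebra.trdeg k (B.residueField η) = ((1 : ℕ) : Cardinal) := by
    have h : (Algebra.trdeg k (B.residueField η)).toNat = 1 := hpη
    rw [Nat.cast_one]
    exact Cardinal.toNat_eq_one.1 h
  have hC : Curves.IsCi (B.residueField η) 1 := Groth.Agent.S0212.result k _ 1 htr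
  haveI : IsProper (π.fiberToSpecResidueField η) :=
    inferInstanceAs (IsProper (pullback.snd π (B.fromSpecResidueField η)))
  obtain ⟨s, hs⟩ := exists_section_of_isCi hC (π.fiberToSpecResidueField η) hdimF hgen
  -- spread out
  have hfield : IsField (B.presheaf.stalk η) := Field.toIsField B.functionField
  haveI : IsIso (B.residue η) := by
    rw [ConcreteCategory.isIso_iff_bijective]
    refine ⟨fun a b h => ?_, B.residue_surjective η⟩
    have hker : a - b ∈ IsLocalRing.maximalIdeal (B.presheaf.stalk η) := by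
      rw [← IsLocalRing.residue_eq_zero_iff, map_sub, sub_eq_zero]
      exact h
    rw [IsLocalRing.isField_iff_maximalIdeal_eq.1 hfield, Ideal.mem_bot, sub_eq_zero] at hker
    exact hker
  let φ : Spec (B.presheaf.stalk η) ⟶ X := Spec.map (inv (B.residue η)) ≫ s ≫ π.fiberι η
  have hφ : φ ≫ π = B.fromSpecStalk η ≫ 𝟙 B := by
    have h1 : π.fiberι η ≫ π = π.fiberToSpecResidueField η ≫ B.fromSpecResidueField η :=
      pullback.condition
    simp only [φ, Category.assoc, h1, reassoc_of% hs, Category.comp_id]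
    rw [Scheme.fromSpecResidueField, ← Category.assoc, ← Spec.map_comp, IsIso.hom_inv_id, Spec.map_id,
      Category.id_comp]
  obtain ⟨U, hηU, g, -, hg⟩ := spread_out_of_isGermInjective' (𝟙 B) π φ hφ
  have hU : Dense (U : Set B) := (IsOpen.dense U.2 ⟨η, hηU⟩ :)
  obtain ⟨U', hle, hU', f', hf', hf'U⟩ := NeronLib.exists_extension_codim_one
    (NeronLib.smoothRegular_spec k) p (π ≫ p) U hU g (by rw [← Category.assoc, hg, Category.comp_id])
  have htop : U' = ⊤ := eq_top_iff.2 fun x _ => hU' x
    ((CurvesLib24.stalk_dim_le_topologicalKrullDim x).trans hB1.le)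
  subst htop
  refine ⟨(Scheme.topIso B).inv ≫ f', ?_, s, hs⟩
  haveI : IsReduced B := inferInstance
  have hι : (Scheme.topIso B).inv ≫ (⊤ : B.Opens).ι = 𝟙 B := (Scheme.topIso B).inv_hom_id
  have hσp : ((Scheme.topIso B).inv ≫ f' ≫ π) ≫ p = p := by
    simp only [Category.assoc]
    rw [hf', ← Category.assoc, hι, Category.id_comp]
  rw [Category.assoc]
  refine NeronLib.ext_of_dense p _ _ (hσp.trans (Category.id_comp p).symm) U hU ?_
  have hle' : U.ι ≫ (Scheme.topIso B).inv = B.homOfLE hle := by
    rw [← cancel_mono (⊤ : B.Opens).ι, Category.assoc, hι, Category.comp_id, Scheme.homOfLE_ι]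
  rw [reassoc_of% hle', reassoc_of% hf'U, hg, Category.comp_id]

end Groth.Agent.EssDimConic
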